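import Mathlib.GroupTheory.Schreier
import Mathlib.GroupTheory.Abelianization.Defs
import Mathlib.GroupTheory.FreeGroup.NielsenSchreier
import Mathlib.Algebra.FreeAbelianGroup.Finsupp
import Mathlib.LinearAlgebra.FreeModule.PID
import Cfsg.Prelude.Def_KGroupFacts
import Mathlib.Algebra.Module.Projective
import Mathlib.GroupTheory.Finiteness
import Mathlib.RingTheory.PrincipalIdealDomain
import Mathlib.RingTheory.Noetherian.Basic
import Mathlib.Algebra.EuclideanDomain.Int
import Mathlib.GroupTheory.QuotientGroup.Finite
import Mathlib.GroupTheory.Index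
set_option linter.all false

-- part: H487/SchurBasic
section
/-!
# Schur multipliers, basic theory

A central extension `π : E →* G` is *versal* if it is `F/[F,R] → F/R` for a free group `F`.
The Schur multiplier is `ker π ⊓ commutator E` (Hopf's formula).
-/

set_option autoImplicit false

universe u v w u' v' w'

namespace Cfsg.Agent.H487

open Function
open scoped commutatorElement

section Central

variable {E : Type u} {G : Type v} {D : Type w} [Group E] [Group G] [Group D]

/-- Two homomorphisms that agree modulo a central kernel agree on the commutator subgroup. -/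
theorem eqOn_commutator_of_central {τ : D →* G} (hτ : τ.ker ≤ Subgroup.center D) {φ ψ : E →* D}
    (h : τ.comp φ = τ.comp ψ) : ∀ x ∈ _root_.commutator E, φ x = ψ x := by
  have key : _root_.commutator E ≤ MonoidHom.eqLocus φ ψ := by
    rw [commutator_def, Subgroup.commutator_le]
    intro a _ b _
    have hz : ∀ c : E, ∃ z ∈ Subgroup.center D, φ c = ψ c * z := by
      intro c
      refine ⟨(ψ c)⁻¹ * φ c, hτ ?_, by group⟩
      rw [MonoidHom.mem_ker, map_mul, map_inv]
      have := DFunLike.congr_fun h c
      simp only [MonoidHom.comp_apply] at this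
      rw [this]; group
    obtain ⟨z, hz1, hz2⟩ := hz a
    obtain ⟨w, hw1, hw2⟩ := hz b
    rw [Subgroup.mem_center_iff] at hz1 hw1
    change φ ⁅a, b⁆ = ψ ⁅a, b⁆
    rw [map_commutatorElement, map_commutatorElement, hz2, hw2, commutatorElement_def,
      commutatorElement_def]
    have e1 : ψ a * z * (ψ b * w) = ψ a * ψ b * (z * w) := by
      calc ψ a * z * (ψ b * w) = ψ a * (z * (ψ b * w)) := by group
        _ = ψ a * ((ψ b * w) * z) := by rw [hz1 (ψ b * w)]
        _ = ψ a * (ψ b * (w * z)) := by group
        _ = ψ a * (ψ b * (z * w)) := by rw [hz1 w]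
        _ = _ := by group
    have e2 : ψ b * w * (ψ a * z) = ψ b * ψ a * (z * w) := by
      calc ψ b * w * (ψ a * z) = ψ b * (w * (ψ a * z)) := by group
        _ = ψ b * ((ψ a * z) * w) := by rw [hw1 (ψ a * z)]
        _ = _ := by group
    calc ψ a * z * (ψ b * w) * (ψ a * z)⁻¹ * (ψ b * w)⁻¹
        = (ψ a * z * (ψ b * w)) * (ψ b * w * (ψ a * z))⁻¹ := by group
      _ = (ψ a * ψ b * (z * w)) * (ψ b * ψ a * (z * w))⁻¹ := by rw [e1, e2]
      _ = _ := by group
  intro x hx
  exact key hx

/-- If `D = φ(E) Z` with `Z` central then the commutator subgroup of `D` is the image of that of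
`E`. -/
theorem commutator_eq_map_of_central {τ : D →* G} (hτ : τ.ker ≤ Subgroup.center D)
    {φ : E →* D} (hs : Surjective (τ.comp φ)) :
    _root_.commutator D = (_root_.commutator E).map φ := by
  apply le_antisymm
  · rw [commutator_def, Subgroup.commutator_le]
    intro a _ b _
    have hz : ∀ c : D, ∃ x : E, ∃ z ∈ Subgroup.center D, c = φ x * z := by
      intro c
      obtain ⟨x, hx⟩ := hs (τ c)
      refine ⟨x, (φ x)⁻¹ * c, hτ ?_, by group⟩
      rw [MonoidHom.mem_ker, map_mul, map_inv]
      simp only [MonoidHom.comp_apply] at hx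
      rw [hx]; group
    obtain ⟨x, z, hz1, rfl⟩ := hz a
    obtain ⟨y, w, hw1, rfl⟩ := hz b
    rw [Subgroup.mem_center_iff] at hz1 hw1
    refine ⟨⁅x, y⁆, Subgroup.commutator_mem_commutator (Subgroup.mem_top _) (Subgroup.mem_top _), ?_⟩
    rw [map_commutatorElement, commutatorElement_def, commutatorElement_def]
    have e1 : φ x * z * (φ y * w) = φ x * φ y * (z * w) := by
      calc φ x * z * (φ y * w) = φ x * (z * (φ y * w)) := by group
        _ = φ x * ((φ y * w) * z) := by rw [hz1 (φ y * w)]
        _ = φ x * (φ y * (w * z)) := by group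
        _ = φ x * (φ y * (z * w)) := by rw [hz1 w]
        _ = _ := by group
    have e2 : φ y * w * (φ x * z) = φ y * φ x * (z * w) := by
      calc φ y * w * (φ x * z) = φ y * (w * (φ x * z)) := by group
        _ = φ y * ((φ x * z) * w) := by rw [hw1 (φ x * z)]
        _ = _ := by group
    calc φ x * φ y * (φ x)⁻¹ * (φ y)⁻¹
        = (φ x * φ y * (z * w)) * (φ y * φ x * (z * w))⁻¹ := by group
      _ = (φ x * z * (φ y * w)) * (φ y * w * (φ x * z))⁻¹ := by rw [e1, e2]
      _ = _ := by group
  · rw [_root_.commutator_def, _root_.commutator_def, Subgroup.map_commutator]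
    exact Subgroup.commutator_mono le_top le_top

/-- A homomorphism of central extensions of `G` maps `ker ⊓ commutator` onto
`ker ⊓ commutator`. -/
theorem map_ker_inf_commutator {π : E →* G} (hπ : Surjective π) {τ : D →* G}
    (hτ : τ.ker ≤ Subgroup.center D) {φ : E →* D} (h : τ.comp φ = π) :
    (π.ker ⊓ _root_.commutator E).map φ = τ.ker ⊓ _root_.commutator D := by
  have hs : Surjective (τ.comp φ) := by rw [h]; exact hπ
  have hc := commutator_eq_map_of_central hτ hs
  apply le_antisymm
  · rintro _ ⟨x, ⟨hx1, hx2⟩, rfl⟩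
    refine ⟨?_, ?_⟩
    · change τ (φ x) = 1
      have := DFunLike.congr_fun h x
      simp only [MonoidHom.comp_apply] at this
      rw [this]; exact hx1
    · rw [hc]; exact ⟨x, hx2, rfl⟩
  · rintro y ⟨hy1, hy2⟩
    rw [hc] at hy2
    obtain ⟨x, hx, rfl⟩ := hy2
    refine ⟨x, ⟨?_, hx⟩, rfl⟩
    change π x = 1
    rw [← h]; exact hy1

/-- A homomorphism over `G` into a stem extension is surjective. -/
theorem surjective_of_isStemExtension {π : E →* G} (hπ : Surjective π) {τ : D →* G}
    (hτ : Cfsg.IsStemExtension τ) {φ : E →* D} (h : τ.comp φ = π) : Surjective φ := by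
  obtain ⟨-, hτ2, hτ3⟩ := hτ
  have hs : Surjective (τ.comp φ) := by rw [h]; exact hπ
  have hc := commutator_eq_map_of_central hτ2 hs
  intro d
  obtain ⟨x, hx⟩ := hs (τ d)
  have hk : (φ x)⁻¹ * d ∈ τ.ker := by
    rw [MonoidHom.mem_ker, map_mul, map_inv]
    simp only [MonoidHom.comp_apply] at hx
    rw [hx]; group
  have h2 := hτ3 hk
  rw [hc] at h2
  obtain ⟨y, _, hy⟩ := h2
  exact ⟨x * y, by rw [map_mul, hy]; group⟩

end Central

section Versal

variable {E : Type u} {G : Type v} [Group E] [Group G]

/-- A central extension `π : E →* G` is versal if it is of the form `F/[F,R] →* F/R`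
for a free group `F`. -/
structure IsVersal (π : E →* G) : Prop where
  surj : Function.Surjective π
  central : π.ker ≤ Subgroup.center E
  free : ∃ (F : Type u) (_ : Group F) (_ : IsFreeGroup F) (p : F →* E),
    Function.Surjective p ∧ p.ker = ⁅(⊤ : Subgroup F), (π.comp p).ker⁆

/-- Free groups have the lifting property. -/
theorem free_lift {F : Type u'} {G : Type v} {D : Type w} [Group F] [IsFreeGroup F] [Group G]
    [Group D] (f : F →* G) {τ : D →* G} (hτ : Surjective τ) : ∃ φ : F →* D, τ.comp φ = f := by
  refine ⟨IsFreeGroup.lift (fun a => (hτ (f (IsFreeGroup.of a))).choose), ?_⟩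
  apply IsFreeGroup.ext_hom
  intro a
  rw [MonoidHom.comp_apply, IsFreeGroup.lift_of]
  exact (hτ (f (IsFreeGroup.of a))).choose_spec

/-- The lifting property of versal central extensions. -/
theorem IsVersal.lift {π : E →* G} (h : IsVersal π) {H : Type v'} [Group H] (f : G →* H)
    {D : Type w} [Group D] {τ : D →* H} (hτ : Surjective τ) (hc : τ.ker ≤ Subgroup.center D) :
    ∃ φ : E →* D, τ.comp φ = f.comp π := by
  obtain ⟨F, _, _, p, hp, hk⟩ := h.free
  obtain ⟨ψ, hψ⟩ := free_lift (f.comp (π.comp p)) hτ
  have hle : p.ker ≤ ψ.ker := by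
    rw [hk, Subgroup.commutator_le]
    intro a _ b hb
    rw [MonoidHom.mem_ker, map_commutatorElement, commutatorElement_eq_one_iff_mul_comm]
    have hb' : ψ b ∈ τ.ker := by
      rw [MonoidHom.mem_ker]
      have := DFunLike.congr_fun hψ b
      simp only [MonoidHom.comp_apply] at this
      rw [this]
      have hb2 : π (p b) = 1 := hb
      rw [hb2, map_one]
    exact (Subgroup.mem_center_iff.1 (hc hb')) (ψ a)
  let e := QuotientGroup.quotientKerEquivOfSurjective p hp
  refine ⟨(QuotientGroup.lift p.ker ψ hle).comp e.symm.toMonoidHom, ?_⟩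
  ext x
  obtain ⟨y, rfl⟩ := hp x
  have he : e.symm (p y) = (y : F ⧸ p.ker) := by
    rw [MulEquiv.symm_apply_eq]; rfl
  have := DFunLike.congr_fun hψ y
  simp only [MonoidHom.comp_apply] at this
  simp only [MonoidHom.comp_apply, MulEquiv.coe_toMonoidHom]
  rw [he]
  exact this

theorem IsVersal.lift_id {π : E →* G} (h : IsVersal π)
    {D : Type w} [Group D] {τ : D →* G} (hτ : Surjective τ) (hc : τ.ker ≤ Subgroup.center D) :
    ∃ φ : E →* D, τ.comp φ = π := by
  obtain ⟨φ, hφ⟩ := h.lift (MonoidHom.id G) hτ hc
  exact ⟨φ, by rw [hφ]; rfl⟩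

/-- Change the target of a versal extension along an isomorphism. -/
theorem IsVersal.comp_equiv {π : E →* G} (h : IsVersal π) {H : Type w} [Group H] (e : G ≃* H) :
    IsVersal (e.toMonoidHom.comp π) := by
  have hk : ∀ {X : Type u} [Group X] (f : X →* G), (e.toMonoidHom.comp f).ker = f.ker := by
    intro X _ f
    ext x
    simp [MonoidHom.mem_ker]
  refine ⟨e.surjective.comp h.surj, ?_, ?_⟩
  · rw [hk]; exact h.central
  · obtain ⟨F, i1, i2, p, hp, hk'⟩ := h.free
    refine ⟨F, i1, i2, p, hp, ?_⟩
    rw [MonoidHom.comp_assoc, hk]; exact hk'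

/-- The universal example: `F/[F,R] →* G`. -/
def freeExt {F : Type u} [Group F] (p : F →* G) :
    (F ⧸ ⁅(⊤ : Subgroup F), p.ker⁆) →* G :=
  QuotientGroup.lift _ p (by
    intro x hx
    have : ⁅(⊤ : Subgroup F), p.ker⁆ ≤ p.ker := Subgroup.commutator_le_right _ _
    exact this hx)

theorem freeExt_mk {F : Type u} [Group F] (p : F →* G) (x : F) :
    freeExt p (x : F ⧸ ⁅(⊤ : Subgroup F), p.ker⁆) = p x := rfl

theorem isVersal_freeExt {F : Type u} [Group F] [IsFreeGroup F] (p : F →* G) (hp : Surjective p) :
    IsVersal (freeExt p) := by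
  refine ⟨?_, ?_, ⟨F, inferInstance, inferInstance, QuotientGroup.mk' _,
    QuotientGroup.mk'_surjective _, ?_⟩⟩
  · intro g
    obtain ⟨x, rfl⟩ := hp g
    exact ⟨(x : F ⧸ ⁅(⊤ : Subgroup F), p.ker⁆), rfl⟩
  · intro x
    induction x using QuotientGroup.induction_on with
    | H x =>
      intro hx
      have hx' : x ∈ p.ker := hx
      rw [Subgroup.mem_center_iff]
      intro y
      induction y using QuotientGroup.induction_on with
      | H y =>
        rw [← commutatorElement_eq_one_iff_mul_comm]
        change ((⁅y, x⁆ : F) : F ⧸ ⁅(⊤ : Subgroup F), p.ker⁆) = 1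
        rw [QuotientGroup.eq_one_iff]
        exact Subgroup.commutator_mem_commutator (Subgroup.mem_top _) hx'
  · rw [QuotientGroup.ker_mk']
    rfl

end Versal

section Multiplier

/-- The versal central extension of `G`. -/
abbrev EE (G : Type u) [Group G] : Type u :=
  FreeGroup G ⧸ ⁅(⊤ : Subgroup (FreeGroup G)), (FreeGroup.lift (id : G → G)).ker⁆

/-- The projection of the versal central extension of `G` to `G`. -/
def pr (G : Type u) [Group G] : EE G →* G := freeExt (FreeGroup.lift (id : G → G))

theorem isVersal_pr (G : Type u) [Group G] : IsVersal (pr G) :=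
  isVersal_freeExt _ (fun g => ⟨FreeGroup.of g, by simp⟩)

/-- The Schur multiplier of a central extension (this is the multiplier of `G` for a versal one) -/
abbrev Mult {E : Type u} {G : Type v} [Group E] [Group G] (π : E →* G) : Subgroup E :=
  π.ker ⊓ _root_.commutator E

/-- The Schur multiplier of `G`, as a subgroup of the versal central extension. -/
abbrev MM (G : Type u) [Group G] : Subgroup (EE G) := Mult (pr G)

/-- Subgroups of the centre are commutative. -/
@[reducible] def commGroupOfLeCenter {E : Type u} [Group E] {K : Subgroup E}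
    (h : K ≤ Subgroup.center E) : CommGroup K :=
  { (inferInstance : Group K) with
    mul_comm := fun a b => Subtype.ext ((Subgroup.mem_center_iff.1 (h b.2)) a.1) }

instance instCommGroupMM (G : Type u) [Group G] : CommGroup (MM G) :=
  commGroupOfLeCenter (inf_le_left.trans (isVersal_pr G).central)

end Multiplier

end Cfsg.Agent.H487
end

-- part: H487/SchurFinite
section
/-!
# Schur multipliers of finite groups: existence of covers, uniqueness

-/

set_option autoImplicit false

universe u v w u' v' w'

namespace Cfsg.Agent.H487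

open Function
open scoped commutatorElement

section Finite

variable {E : Type u} {G : Type v} [Group E] [Group G]

/-- Schur: a central extension of a finite group has finite commutator subgroup. -/
theorem finite_commutator_of_central [Finite G] {π : E →* G} (hs : Surjective π)
    (hc : π.ker ≤ Subgroup.center E) : Finite (_root_.commutator E) := by
  have : Finite (commutatorSet E) := by
    let s : G → E := fun g => (hs g).choose
    have hsp : ∀ g, π (s g) = g := fun g => (hs g).choose_spec
    have hsub : commutatorSet E ⊆ Set.range (fun q : G × G => ⁅s q.1, s q.2⁆) := by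
      rintro _ ⟨a, b, rfl⟩
      refine ⟨(π a, π b), ?_⟩
      have hz : ∀ c : E, ∃ z ∈ Subgroup.center E, c = s (π c) * z := by
        intro c
        refine ⟨(s (π c))⁻¹ * c, hc ?_, by group⟩
        rw [MonoidHom.mem_ker, map_mul, map_inv, hsp]; group
      obtain ⟨z, hz1, hz2⟩ := hz a
      obtain ⟨w, hw1, hw2⟩ := hz b
      change ⁅s (π a), s (π b)⁆ = ⁅a, b⁆
      generalize s (π a) = a' at *
      generalize s (π b) = b' at *
      rw [hz2, hw2]
      rw [Subgroup.mem_center_iff] at hz1 hw1
      rw [commutatorElement_def, commutatorElement_def]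
      have e1 : a' * z * (b' * w) = a' * b' * (z * w) := by
        calc a' * z * (b' * w) = a' * (z * (b' * w)) := by group
          _ = a' * ((b' * w) * z) := by rw [hz1 (b' * w)]
          _ = a' * (b' * (w * z)) := by group
          _ = a' * (b' * (z * w)) := by rw [hz1 w]
          _ = _ := by group
      have e2 : b' * w * (a' * z) = b' * a' * (z * w) := by
        calc b' * w * (a' * z) = b' * (w * (a' * z)) := by group
          _ = b' * ((a' * z) * w) := by rw [hw1 (a' * z)]
          _ = _ := by group
      calc a' * b' * a'⁻¹ * b'⁻¹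
          = (a' * b' * (z * w)) * (b' * a' * (z * w))⁻¹ := by group
        _ = (a' * z * (b' * w)) * (b' * w * (a' * z))⁻¹ := by rw [e1, e2]
        _ = _ := by group
    exact (Set.finite_range _).subset hsub
  infer_instance

theorem finite_mult [Finite G] {π : E →* G} (hs : Surjective π)
    (hc : π.ker ≤ Subgroup.center E) : Finite (Mult π) := by
  have := finite_commutator_of_central hs hc
  exact Finite.of_injective (Subgroup.inclusion (inf_le_right : Mult π ≤ _))
    (Subgroup.inclusion_injective _)

instance instFiniteMM (G : Type u) [Group G] [Finite G] : Finite (MM G) :=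
  finite_mult (isVersal_pr G).surj (isVersal_pr G).central

/-- The abelianization of a versal extension is torsion free. -/
theorem IsVersal.torsionFree {π : E →* G} (h : IsVersal π) :
    Module.IsTorsionFree ℤ (Additive (Abelianization E)) := by
  obtain ⟨F, _, hF, p, hp, hk⟩ := h.free
  obtain ⟨X, ⟨b⟩⟩ := hF.nonempty_basis
  have hinj : Injective (Abelianization.map p) := by
    rw [injective_iff_map_eq_one]
    intro x
    induction x using QuotientGroup.induction_on with
    | H x =>
      intro hx
      change (Abelianization.of (p x)) = 1 at hx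
      have hx' : p x ∈ _root_.commutator E := by
        rw [← Abelianization.ker_of E]; exact hx
      have hcm : _root_.commutator E = (_root_.commutator F).map p := by
        rw [_root_.commutator_def, _root_.commutator_def, Subgroup.map_commutator,
          Subgroup.map_top_of_surjective p hp]
      rw [hcm] at hx'
      obtain ⟨z, hz, hzx⟩ := hx'
      have h2 : z⁻¹ * x ∈ p.ker := by
        rw [MonoidHom.mem_ker, map_mul, map_inv, hzx]; group
      have h3 : p.ker ≤ _root_.commutator F := by
        rw [hk, _root_.commutator_def]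
        exact Subgroup.commutator_mono le_rfl le_top
      have h4 : x ∈ _root_.commutator F := by
        have := (_root_.commutator F).mul_mem hz (h3 h2)
        simpa using this
      exact (QuotientGroup.eq_one_iff x).2 h4
  have hsurj : Surjective (Abelianization.map p) := by
    intro y
    induction y using QuotientGroup.induction_on with
    | H y =>
      obtain ⟨x, rfl⟩ := hp y
      exact ⟨Abelianization.of x, rfl⟩
  let e1 : Abelianization F ≃* Abelianization E := MulEquiv.ofBijective _ ⟨hinj, hsurj⟩
  let e2 : Abelianization F ≃* Abelianization (FreeGroup X) := b.repr.abelianizationCongr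
  let e3 : Additive (Abelianization E) ≃+ FreeAbelianGroup X :=
    MulEquiv.toAdditive (e1.symm.trans e2)
  let e4 : Additive (Abelianization E) ≃+ (X →₀ ℤ) := e3.trans (FreeAbelianGroup.equivFinsupp X)
  exact Function.Injective.moduleIsTorsionFree (R := ℤ) (fun x => e4 x) e4.injective
    (fun r m => map_zsmul e4 r m)

/-- The key splitting lemma: every subgroup of `ker π` is the direct product of its intersection
with the commutator subgroup and a complement. -/
theorem IsVersal.exists_complement {π : E →* G} (h : IsVersal π) [Group.FG E] (K : Subgroup E)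
    (hK : K ≤ π.ker) :
    ∃ S : Subgroup E, S ≤ K ∧ S ⊓ _root_.commutator E = ⊥ ∧
      S ⊔ (K ⊓ _root_.commutator E) = K := by
  let : CommGroup K := commGroupOfLeCenter (hK.trans h.central)
  have := h.torsionFree
  have : Module.Finite ℤ (Additive (Abelianization E)) := by
    rw [Module.Finite.iff_addGroup_fg, ← GroupFG.iff_add_fg]
    exact Group.fg_of_surjective (f := (Abelianization.of : E →* Abelianization E))
      (QuotientGroup.mk'_surjective _)
  let f0 : K →* Abelianization E := (Abelianization.of).comp K.subtype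
  let f : Additive K →+ Additive (Abelianization E) := MonoidHom.toAdditive f0
  let fl : Additive K →ₗ[ℤ] Additive (Abelianization E) := f.toIntLinearMap
  have hfl : ∀ k : K, fl (Additive.ofMul k) = Additive.ofMul (Abelianization.of (k : E)) :=
    fun k => rfl
  let R := LinearMap.range fl
  have : IsNoetherian ℤ (Additive (Abelianization E)) :=
    isNoetherian_of_isNoetherianRing_of_finite ℤ _
  have : Module.Finite ℤ R := Module.IsNoetherian.finite ℤ R
  have : Module.IsTorsionFree ℤ R := inferInstance
  have : Module.Free ℤ R := inferInstance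
  obtain ⟨s, hs⟩ := Module.projective_lifting_property fl.rangeRestrict
    (LinearMap.id : R →ₗ[ℤ] R) (LinearMap.surjective_rangeRestrict fl)
  let t0 : Multiplicative R →* K := AddMonoidHom.toMultiplicativeLeft s.toAddMonoidHom
  let t : Multiplicative R →* E := K.subtype.comp t0
  have ht : ∀ r : R, t (Multiplicative.ofAdd r) = ((Additive.toMul (s r) : K) : E) :=
    fun r => rfl
  refine ⟨t.range, ?_, ?_, ?_⟩
  · rintro _ ⟨r, rfl⟩
    exact (t0 r).2
  · rw [eq_bot_iff]
    rintro _ ⟨⟨r, rfl⟩, hr⟩
    have h1 : fl (s (Multiplicative.toAdd r)) = ((Multiplicative.toAdd r : R) : Additive (Abelianization E)) := by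
      have := LinearMap.congr_fun hs (Multiplicative.toAdd r)
      have h2 := congrArg (Subtype.val) this
      exact h2
    have h2 : fl (s (Multiplicative.toAdd r)) = 0 := by
      have : Abelianization.of (t r) = 1 := by
        rw [← MonoidHom.mem_ker, Abelianization.ker_of]; exact hr
      exact this
    rw [h1] at h2
    have h3 : (Multiplicative.toAdd r : R) = 0 := Subtype.ext h2
    have h4 : r = 1 := h3
    rw [h4, map_one]
    exact Subgroup.one_mem _
  · apply le_antisymm
    · apply sup_le
      · rintro _ ⟨r, rfl⟩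
        exact (t0 r).2
      · exact inf_le_left
    · intro k hk
      let k' : K := ⟨k, hk⟩
      let r : R := ⟨fl (Additive.ofMul k'), ⟨_, rfl⟩⟩
      have h1 : fl (s r) = fl (Additive.ofMul k') := by
        have := LinearMap.congr_fun hs r
        have h2 := congrArg (Subtype.val) this
        exact h2
      have h2 : (t (Multiplicative.ofAdd r))⁻¹ * k ∈ _root_.commutator E := by
        rw [← Abelianization.ker_of, MonoidHom.mem_ker, map_mul, map_inv]
        have h3 : Abelianization.of (t (Multiplicative.ofAdd r)) = Abelianization.of k := h1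
        rw [h3]; group
      have h3 : k = t (Multiplicative.ofAdd r) * ((t (Multiplicative.ofAdd r))⁻¹ * k) := by group
      rw [h3]
      refine Subgroup.mul_mem_sup ⟨_, rfl⟩ ⟨?_, h2⟩
      exact K.mul_mem (K.inv_mem (t0 _).2) hk

end Finite

end Cfsg.Agent.H487
end

-- part: H487/SchurMult
section
/-!
# Schur multipliers of finite groups: covers, uniqueness, criteria
-/

set_option autoImplicit false

universe u v w u' v' w'

namespace Cfsg.Agent.H487

open Function
open scoped commutatorElement

section Quot

variable {E : Type u} {G : Type v} [Group E] [Group G]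

theorem normal_of_le_center {S : Subgroup E} (h : S ≤ Subgroup.center E) : S.Normal := by
  refine ⟨fun n hn g => ?_⟩
  have := Subgroup.mem_center_iff.1 (h hn) g
  rw [this]; simpa using hn

theorem ker_quotLift {π : E →* G} (S : Subgroup E) [S.Normal] (hS : S ≤ π.ker) :
    (QuotientGroup.lift S π hS).ker = π.ker.map (QuotientGroup.mk' S) := by
  ext x
  induction x using QuotientGroup.induction_on with
  | H x =>
    constructor
    · intro hx
      exact ⟨x, hx, rfl⟩
    · rintro ⟨y, hy, hyx⟩
      have : π x = π y := by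
        have h1 : (y : E ⧸ S) = (x : E ⧸ S) := hyx
        have h2 := congrArg (QuotientGroup.lift S π hS) h1
        exact h2.symm
      change π x = 1
      rw [this]; exact hy

theorem surjective_quotLift {π : E →* G} (hs : Surjective π) (S : Subgroup E) [S.Normal]
    (hS : S ≤ π.ker) : Surjective (QuotientGroup.lift S π hS) := by
  intro g
  obtain ⟨x, rfl⟩ := hs g
  exact ⟨(x : E ⧸ S), rfl⟩

theorem central_quotLift {π : E →* G} (hc : π.ker ≤ Subgroup.center E) (S : Subgroup E)
    [S.Normal] (hS : S ≤ π.ker) :
    (QuotientGroup.lift S π hS).ker ≤ Subgroup.center (E ⧸ S) := by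
  rw [ker_quotLift]
  rintro _ ⟨x, hx, rfl⟩
  rw [Subgroup.mem_center_iff]
  intro y
  induction y using QuotientGroup.induction_on with
  | H y =>
    have := Subgroup.mem_center_iff.1 (hc hx) y
    exact congrArg (fun z : E => (z : E ⧸ S)) this

theorem commutator_quot (S : Subgroup E) [S.Normal] :
    _root_.commutator (E ⧸ S) = (_root_.commutator E).map (QuotientGroup.mk' S) := by
  rw [_root_.commutator_def, _root_.commutator_def, Subgroup.map_commutator,
    Subgroup.map_top_of_surjective _ (QuotientGroup.mk'_surjective S)]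

/-- Quotients of central extensions that are stem extensions. -/
theorem isStemExtension_quotLift {π : E →* G} (hs : Surjective π)
    (hc : π.ker ≤ Subgroup.center E) (S : Subgroup E) [S.Normal] (hS : S ≤ π.ker)
    (hsup : π.ker ≤ S ⊔ _root_.commutator E) :
    Cfsg.IsStemExtension (QuotientGroup.lift S π hS) := by
  refine ⟨surjective_quotLift hs S hS, central_quotLift hc S hS, ?_⟩
  rw [ker_quotLift, commutator_quot]
  calc π.ker.map (QuotientGroup.mk' S)
      ≤ (S ⊔ _root_.commutator E).map (QuotientGroup.mk' S) := Subgroup.map_mono hsup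
    _ = S.map (QuotientGroup.mk' S) ⊔ (_root_.commutator E).map (QuotientGroup.mk' S) :=
        Subgroup.map_sup _ _ _
    _ ≤ _ := by
        apply sup_le _ le_rfl
        rintro _ ⟨x, hx, rfl⟩
        have : (QuotientGroup.mk' S) x = 1 := (QuotientGroup.eq_one_iff x).2 hx
        rw [this]; exact Subgroup.one_mem _

/-- The kernel of the quotient extension. -/
theorem nonempty_mulEquiv_ker_quotLift {π : E →* G} (S : Subgroup E) [S.Normal] (hS : S ≤ π.ker)
    (hinf : S ⊓ _root_.commutator E = ⊥) (hsup : π.ker ≤ S ⊔ Mult π) :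
    Nonempty (Mult π ≃* (QuotientGroup.lift S π hS).ker) := by
  let f : Mult π →* (QuotientGroup.lift S π hS).ker :=
    ((QuotientGroup.mk' S).comp (Mult π).subtype).codRestrict _ (by
      rintro ⟨x, hx1, hx2⟩
      exact hx1)
  refine ⟨MulEquiv.ofBijective f ⟨?_, ?_⟩⟩
  · rw [injective_iff_map_eq_one]
    rintro ⟨x, hx1, hx2⟩ hx
    have h1 : (x : E ⧸ S) = 1 := congrArg Subtype.val hx
    rw [QuotientGroup.eq_one_iff] at h1
    have h2 : x ∈ S ⊓ _root_.commutator E := ⟨h1, hx2⟩
    rw [hinf] at h2
    exact Subtype.ext h2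
  · rintro ⟨y, hy⟩
    rw [ker_quotLift] at hy
    obtain ⟨x, hx, rfl⟩ := hy
    have h1 := hsup hx
    rw [Subgroup.mem_sup_of_normal_left] at h1
    obtain ⟨s, hs, m, hm, rfl⟩ := h1
    refine ⟨⟨m, hm⟩, ?_⟩
    apply Subtype.ext
    change (m : E ⧸ S) = ((s * m : E) : E ⧸ S)
    have : (s : E ⧸ S) = 1 := (QuotientGroup.eq_one_iff s).2 hs
    rw [QuotientGroup.mk_mul, this, one_mul]

theorem finite_of_ker {X : Type u} {G : Type v} [Group X] [Group G] [Finite G] (σ : X →* G)
    [Finite σ.ker] : Finite X :=
  σ.finite_iff_finite_ker_range.2 ⟨inferInstance, inferInstance⟩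

end Quot

section Cover

variable {E : Type u} {G : Type v} [Group E] [Group G]

/-- Surjection of the multiplier onto `ker ⊓ commutator` of any central extension. -/
theorem IsVersal.exists_surj {π : E →* G} (h : IsVersal π) {D : Type w} [Group D] {τ : D →* G}
    (hs : Surjective τ) (hc : τ.ker ≤ Subgroup.center D) :
    ∃ f : Mult π →* Mult τ, Surjective f := by
  obtain ⟨φ, hφ⟩ := h.lift_id hs hc
  have hmap : (Mult π).map φ = Mult τ := map_ker_inf_commutator h.surj hc hφ
  refine ⟨(φ.comp (Mult π).subtype).codRestrict (Mult τ) ?_, ?_⟩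
  · intro x
    rw [← hmap]
    exact ⟨x.1, x.2, rfl⟩
  · rintro ⟨y, hy⟩
    have hy' := hy
    rw [← hmap] at hy'
    obtain ⟨x, hx, rfl⟩ := hy'
    exact ⟨⟨x, hx⟩, rfl⟩

theorem mult_of_isStemExtension {D : Type w} [Group D] {τ : D →* G}
    (h : Cfsg.IsStemExtension τ) : Mult τ = τ.ker := inf_eq_left.2 h.2.2

theorem IsVersal.exists_surj_ker {π : E →* G} (h : IsVersal π) {D : Type w} [Group D]
    {τ : D →* G} (hτ : Cfsg.IsStemExtension τ) :
    ∃ f : Mult π →* τ.ker, Surjective f := by
  have := h.exists_surj hτ.1 hτ.2.1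
  rwa [mult_of_isStemExtension hτ] at this

/-- **Existence of Schur covers** in the universe of `E`: every stem extension quotient
`E ⧸ K` is dominated by a cover `E ⧸ S` with `S ≤ K`. -/
theorem IsVersal.exists_cover {π : E →* G} (h : IsVersal π) [Group.FG E] [Finite G]
    (K : Subgroup E) (hK : K ≤ π.ker) (hKc : π.ker ≤ K ⊔ _root_.commutator E) :
    ∃ (S : Subgroup E) (_ : S.Normal) (hS : S ≤ π.ker), S ≤ K ∧ S ⊓ _root_.commutator E = ⊥ ∧
      π.ker = S ⊔ Mult π ∧ Finite (E ⧸ S) ∧
      Cfsg.IsStemExtension (QuotientGroup.lift S π hS) ∧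
      Nonempty (Mult π ≃* (QuotientGroup.lift S π hS).ker) := by
  obtain ⟨S, hSK, hS1, hS2⟩ := h.exists_complement K hK
  have hSn : S.Normal := normal_of_le_center (hSK.trans (hK.trans h.central))
  have hKn : K.Normal := normal_of_le_center (hK.trans h.central)
  have hSπ : S ≤ π.ker := hSK.trans hK
  have hker : π.ker = S ⊔ Mult π := by
    apply le_antisymm
    · intro x hx
      have h1 := hKc hx
      rw [Subgroup.mem_sup_of_normal_left] at h1
      obtain ⟨k, hk, c, hc, rfl⟩ := h1
      have hcm : c ∈ Mult π := by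
        refine ⟨?_, hc⟩
        have := π.ker.mul_mem (π.ker.inv_mem (hK hk)) hx
        simpa using this
      have hk' : k ∈ S ⊔ Mult π := by
        have : K ≤ S ⊔ Mult π := by
          rw [← hS2]
          exact sup_le_sup_left (inf_le_inf_right _ hK) _
        exact this hk
      exact Subgroup.mul_mem _ hk' ((le_sup_right : Mult π ≤ S ⊔ Mult π) hcm)
    · exact sup_le hSπ inf_le_left
  have hstem : Cfsg.IsStemExtension (QuotientGroup.lift S π hSπ) := by
    apply isStemExtension_quotLift h.surj h.central
    calc π.ker ≤ S ⊔ Mult π := hker.le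
      _ ≤ _ := sup_le_sup_left inf_le_right _
  have hne := nonempty_mulEquiv_ker_quotLift S hSπ hS1 hker.le
  have hf : Finite (E ⧸ S) := by
    have := finite_mult h.surj h.central
    obtain ⟨e⟩ := hne
    have : Finite (QuotientGroup.lift S π hSπ).ker := Finite.of_equiv _ e.toEquiv
    exact finite_of_ker (QuotientGroup.lift S π hSπ)
  exact ⟨S, hSn, hSπ, hSK, hS1, hker, hf, hstem, hne⟩

instance instFGEE (G : Type u) [Group G] [Finite G] : Group.FG (EE G) :=
  Group.fg_of_surjective (f := QuotientGroup.mk' _) (QuotientGroup.mk'_surjective _)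

/-- **Hopf's formula**: the Schur multiplier of the finite group `G` is `MM G`. -/
theorem hasSchurMultiplier_MM (G : Type u) [Group G] [Finite G] :
    Cfsg.HasSchurMultiplier G (MM G) := by
  refine ⟨?_, ?_⟩
  · obtain ⟨S, hSn, hS, -, -, -, hf, hstem, ⟨e⟩⟩ :=
      (isVersal_pr G).exists_cover (pr G).ker le_rfl le_sup_left
    exact ⟨EE G ⧸ S, inferInstance, hf, QuotientGroup.lift S (pr G) hS, hstem, ⟨e.symm⟩⟩
  · intro Γ _ _ σ hσ
    exact (isVersal_pr G).exists_surj_ker hσ

end Cover

section Unique

/-- Finite groups that map onto each other are isomorphic. -/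
theorem nonempty_mulEquiv_of_surjections {A : Type u} {B : Type v} [Group A] [Group B]
    [Finite A] (f : A →* B) (hf : Surjective f) (g : B →* A) (hg : Surjective g) :
    Nonempty (A ≃* B) := by
  have : Finite B := Finite.of_surjective f hf
  have h1 : Nat.card B ≤ Nat.card A := Nat.card_le_card_of_surjective f hf
  have h2 : Nat.card A ≤ Nat.card B := Nat.card_le_card_of_surjective g hg
  have hb : Bijective f := (Nat.bijective_iff_surjective_and_card f).2 ⟨hf, le_antisymm h2 h1⟩
  exact ⟨MulEquiv.ofBijective f hb⟩

variable {G : Type u} [Group G] {A : Type v} [CommGroup A]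

theorem finite_base (h : Cfsg.HasSchurMultiplier G A) : Finite G := by
  obtain ⟨⟨Γ, _, _, σ, hσ, _⟩, _⟩ := h
  exact Finite.of_surjective σ hσ.1

theorem finite_multiplier (h : Cfsg.HasSchurMultiplier G A) : Finite A := by
  obtain ⟨⟨Γ, _, _, σ, hσ, ⟨e⟩⟩, _⟩ := h
  exact Finite.of_equiv _ e.toEquiv

theorem nonempty_mulEquiv_MM (h : Cfsg.HasSchurMultiplier G A) : Nonempty (A ≃* MM G) := by
  have := finite_base h
  have hA := finite_multiplier h
  obtain ⟨⟨Γ, _, _, σ, hσ, ⟨e⟩⟩, h2⟩ := h
  obtain ⟨⟨Γ', _, _, σ', hσ', ⟨e'⟩⟩, h2'⟩ := hasSchurMultiplier_MM G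
  obtain ⟨f, hf⟩ := h2 Γ' σ' hσ'
  obtain ⟨g, hg⟩ := h2' Γ σ hσ
  exact nonempty_mulEquiv_of_surjections (e'.toMonoidHom.comp f)
    (e'.surjective.comp hf) (e.toMonoidHom.comp g) (e.surjective.comp hg)

/-- Change the isomorphism type of the multiplier. -/
theorem HasSchurMultiplier.congr_right {B : Type w} [CommGroup B]
    (h : Cfsg.HasSchurMultiplier G A) (e : A ≃* B) : Cfsg.HasSchurMultiplier G B := by
  obtain ⟨⟨Γ, i1, i2, σ, hσ, ⟨e'⟩⟩, h2⟩ := h
  refine ⟨⟨Γ, i1, i2, σ, hσ, ⟨e'.trans e⟩⟩, ?_⟩
  intro Γ' _ _ σ' hσ'
  obtain ⟨f, hf⟩ := h2 Γ' σ' hσ'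
  exact ⟨f.comp e.symm.toMonoidHom, hf.comp e.symm.surjective⟩

/-- `A` is the Schur multiplier of the finite group `G` iff it is isomorphic to `MM G`. -/
theorem hasSchurMultiplier_iff [Finite G] :
    Cfsg.HasSchurMultiplier G A ↔ Nonempty (A ≃* MM G) :=
  ⟨nonempty_mulEquiv_MM, fun ⟨e⟩ => HasSchurMultiplier.congr_right (hasSchurMultiplier_MM G) e.symm⟩

/-- Uniqueness of the multiplier. -/
theorem HasSchurMultiplier.unique {B : Type w} [CommGroup B]
    (h : Cfsg.HasSchurMultiplier G A) (h' : Cfsg.HasSchurMultiplier G B) : Nonempty (A ≃* B) := by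
  obtain ⟨e⟩ := nonempty_mulEquiv_MM h
  obtain ⟨e'⟩ := nonempty_mulEquiv_MM h'
  exact ⟨e.trans e'.symm⟩

/-- The multipliers of two versal extensions of the same group are isomorphic. -/
theorem IsVersal.nonempty_mulEquiv {E : Type v} {E' : Type w} [Group E] [Group E'] [Finite G]
    {π : E →* G} (h : IsVersal π) {π' : E' →* G} (h' : IsVersal π') :
    Nonempty (Mult π ≃* Mult π') := by
  have := finite_mult h.surj h.central
  obtain ⟨f, hf⟩ := h.exists_surj h'.surj h'.central
  obtain ⟨g, hg⟩ := h'.exists_surj h.surj h.central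
  exact nonempty_mulEquiv_of_surjections f hf g hg

/-- Transport of the multiplier of a finite group along an isomorphism. -/
theorem nonempty_MM_mulEquiv {H : Type v} [Group H] [Finite G] (e : G ≃* H) :
    Nonempty (MM G ≃* MM H) := by
  have : Finite H := Finite.of_equiv _ e.toEquiv
  have h1 : IsVersal (e.toMonoidHom.comp (pr G)) := (isVersal_pr G).comp_equiv e
  obtain ⟨f⟩ := h1.nonempty_mulEquiv (isVersal_pr H)
  have h2 : Mult (e.toMonoidHom.comp (pr G)) = MM G := by
    ext x
    simp [MonoidHom.mem_ker]
  rw [h2] at f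
  exact ⟨f⟩

/-- Transport of `HasSchurMultiplier` along isomorphisms of the group and of the multiplier,
in arbitrary universes. -/
theorem HasSchurMultiplier.congr {H : Type w} [Group H] {B : Type w'} [CommGroup B]
    (h : Cfsg.HasSchurMultiplier G A) (e : G ≃* H) (f : A ≃* B) :
    Cfsg.HasSchurMultiplier H B := by
  have := finite_base h
  have : Finite H := Finite.of_equiv _ e.toEquiv
  obtain ⟨e1⟩ := nonempty_mulEquiv_MM h
  obtain ⟨e2⟩ := nonempty_MM_mulEquiv e
  exact HasSchurMultiplier.congr_right (hasSchurMultiplier_MM H) (e2.symm.trans (e1.symm.trans f))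

theorem HasSchurMultiplier.congr_left {H : Type w} [Group H]
    (h : Cfsg.HasSchurMultiplier G A) (e : G ≃* H) : Cfsg.HasSchurMultiplier H A :=
  HasSchurMultiplier.congr h e (MulEquiv.refl A)

/-- The multiplier surjects onto `ker ⊓ commutator` of every central extension, in any
universe and without finiteness. -/
theorem HasSchurMultiplier.exists_surj {D : Type w} [Group D] {τ : D →* G}
    (h : Cfsg.HasSchurMultiplier G A)
    (hs : Surjective τ) (hc : τ.ker ≤ Subgroup.center D) :
    ∃ f : A →* Mult τ, Surjective f := by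
  have := finite_base h
  obtain ⟨e⟩ := nonempty_mulEquiv_MM h
  obtain ⟨f, hf⟩ := (isVersal_pr G).exists_surj hs hc
  exact ⟨f.comp e.toMonoidHom, hf.comp e.surjective⟩

/-- The multiplier surjects onto the kernel of every stem extension, in any universe. -/
theorem HasSchurMultiplier.exists_surj_ker {D : Type w} [Group D] {τ : D →* G}
    (h : Cfsg.HasSchurMultiplier G A) (hτ : Cfsg.IsStemExtension τ) :
    ∃ f : A →* τ.ker, Surjective f := by
  have := HasSchurMultiplier.exists_surj h hτ.1 hτ.2.1
  rwa [mult_of_isStemExtension hτ] at this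

/-- Stem extensions of finite groups are finite. -/
theorem finite_of_isStemExtension [Finite G] {D : Type w} [Group D] {τ : D →* G}
    (hτ : Cfsg.IsStemExtension τ) : Finite D := by
  obtain ⟨f, hf⟩ := HasSchurMultiplier.exists_surj_ker (hasSchurMultiplier_MM G) hτ
  have : Finite τ.ker := Finite.of_surjective f hf
  exact finite_of_ker τ

end Unique

end Cfsg.Agent.H487
end
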