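import Cfsg.Agent.H487.SchurCover
import Mathlib.GroupTheory.Transfer
set_option linter.all false

/-!
# Transfer and the Schur multiplier
-/

set_option autoImplicit false

universe u v w

namespace Cfsg.Agent.H487

open Function
open scoped commutatorElement

section

variable {Γ : Type u} [Group Γ]

/-- Transfer: a central element of the commutator subgroup has its `m`-th power in the commutator
subgroup of every subgroup of index `m`. -/
theorem pow_index_mem_commutator (V : Subgroup Γ) [V.FiniteIndex] {a : Γ}
    (ha : a ∈ Subgroup.center Γ) (hac : a ∈ _root_.commutator Γ) :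
    a ^ V.index ∈ ⁅V, V⁆ := by
  have hkey : ∀ (k : ℕ) (g₀ : Γ), g₀⁻¹ * a ^ k * g₀ ∈ V → g₀⁻¹ * a ^ k * g₀ = a ^ k := by
    intro k g₀ _
    have := Subgroup.mem_center_iff.1 ((Subgroup.center Γ).pow_mem ha k) g₀
    rw [mul_assoc, ← this]; group
  have h1 := MonoidHom.transfer_eq_pow (Abelianization.of : V →* Abelianization V) a hkey
  have h2 : MonoidHom.transfer (Abelianization.of : V →* Abelianization V) a = 1 := by
    have := Abelianization.commutator_subset_ker
      (MonoidHom.transfer (Abelianization.of : V →* Abelianization V)) hac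
    exact this
  rw [h2] at h1
  have h3 : (⟨a ^ V.index, MonoidHom.transfer_eq_pow_aux a hkey⟩ : V) ∈ _root_.commutator V := by
    rw [← Abelianization.ker_of]; exact h1.symm
  have h4 : (_root_.commutator V).map V.subtype = ⁅V, V⁆ := by
    rw [_root_.commutator_def, Subgroup.map_commutator, ← MonoidHom.range_eq_map,
      Subgroup.range_subtype]
  rw [← h4]
  exact ⟨_, h3, rfl⟩

variable {G : Type v} [Group G]

theorem ker_subgroupComap (σ : Γ →* G) (U : Subgroup G) :
    (σ.subgroupComap U).ker = σ.ker.subgroupOf (U.comap σ) := by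
  ext x
  rw [MonoidHom.mem_ker, Subgroup.mem_subgroupOf, MonoidHom.mem_ker]
  exact ⟨fun h => congrArg Subtype.val h, fun h => Subtype.ext h⟩

theorem central_subgroupComap {σ : Γ →* G} (hc : σ.ker ≤ Subgroup.center Γ) (U : Subgroup G) :
    (σ.subgroupComap U).ker ≤ Subgroup.center (U.comap σ) := by
  rw [ker_subgroupComap]
  intro x hx
  rw [Subgroup.mem_center_iff]
  intro y
  apply Subtype.ext
  exact Subgroup.mem_center_iff.1 (hc (Subgroup.mem_subgroupOf.1 hx)) y.1

/-- The `m`-th powers of the multiplier of `G` embed in a quotient of the multiplier of a subgroup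
of index `m`. -/
theorem exists_powers_embedding {σ : Γ →* G} (hs : Surjective σ) (hc : σ.ker ≤ Subgroup.center Γ)
    (U : Subgroup G) [U.FiniteIndex] :
    ∀ a ∈ Mult σ, ∃ b ∈ Mult (σ.subgroupComap U), (b : Γ) = a ^ U.index := by
  intro a ha
  have hidx : (U.comap σ).index = U.index := U.index_comap_of_surjective hs
  have : (U.comap σ).FiniteIndex := ⟨by rw [hidx]; exact Subgroup.FiniteIndex.index_ne_zero⟩
  have h1 := pow_index_mem_commutator (U.comap σ) (hc ha.1) ha.2
  rw [hidx] at h1
  have h4 : (_root_.commutator (U.comap σ)).map (U.comap σ).subtype = ⁅U.comap σ, U.comap σ⁆ := by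
    rw [_root_.commutator_def, Subgroup.map_commutator, ← MonoidHom.range_eq_map,
      Subgroup.range_subtype]
  rw [← h4] at h1
  obtain ⟨b, hb, hba⟩ := h1
  refine ⟨b, ⟨?_, hb⟩, hba⟩
  rw [ker_subgroupComap]
  change (U.comap σ).subtype b ∈ σ.ker
  rw [hba]
  exact σ.ker.pow_mem ha.1 _

end

end Cfsg.Agent.H487
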