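import Cfsg.Agent.H487.SchurMult
import Mathlib.Algebra.Category.Grp.Injective
set_option linter.all false

/-!
# Schur covers

`IsCover σ` : `σ` is a stem extension of the finite group `Q` with kernel isomorphic to the
Schur multiplier of `Q`.
-/

set_option autoImplicit false

universe u v w u' v' w'

namespace Cfsg.Agent.H487

open Function
open scoped commutatorElement

/-- `σ` is a Schur covering group of `Q`. -/
structure IsCover {Γ : Type v} {Q : Type u} [Group Γ] [Group Q] (σ : Γ →* Q) : Prop where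
  stem : Cfsg.IsStemExtension σ
  iso : Nonempty (MM Q ≃* σ.ker)

section

variable {Q : Type u} [Group Q]

theorem isCover_of_hasSchurMultiplier {A : Type v} [CommGroup A] (hA : Cfsg.HasSchurMultiplier Q A)
    {Γ : Type w} [Group Γ] {σ : Γ →* Q} (hσ : Cfsg.IsStemExtension σ)
    (hk : Nonempty (σ.ker ≃* A)) : IsCover σ := by
  obtain ⟨e⟩ := nonempty_mulEquiv_MM hA
  obtain ⟨f⟩ := hk
  exact ⟨hσ, ⟨(f.trans e).symm⟩⟩

theorem IsCover.nonempty_ker_mulEquiv {Γ : Type w} [Group Γ] {σ : Γ →* Q} (h : IsCover σ)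
    {A : Type v} [CommGroup A] (hA : Cfsg.HasSchurMultiplier Q A) : Nonempty (σ.ker ≃* A) := by
  obtain ⟨e⟩ := nonempty_mulEquiv_MM hA
  obtain ⟨f⟩ := h.iso
  exact ⟨f.symm.trans e.symm⟩

variable [Finite Q]

/-- The kernel of a cover is the multiplier. -/
theorem IsCover.hasSchurMultiplier {Γ : Type w} [Group Γ] {σ : Γ →* Q} (h : IsCover σ)
    {A : Type v} [CommGroup A] (e : σ.ker ≃* A) : Cfsg.HasSchurMultiplier Q A := by
  obtain ⟨f⟩ := h.iso
  exact hasSchurMultiplier_iff.2 ⟨(f.trans e).symm⟩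

/-- Every stem extension is an image, over `Q`, of a Schur cover. -/
theorem exists_cover_over {Δ : Type v} [Group Δ] (τ : Δ →* Q) (hτ : Cfsg.IsStemExtension τ) :
    ∃ (S : Subgroup (EE Q)) (_ : S.Normal) (hS : S ≤ (pr Q).ker), Finite (EE Q ⧸ S) ∧
      IsCover (QuotientGroup.lift S (pr Q) hS) ∧
      ∃ β : (EE Q ⧸ S) →* Δ, Surjective β ∧ τ.comp β = QuotientGroup.lift S (pr Q) hS := by
  have hV := isVersal_pr Q
  obtain ⟨φ, hφ⟩ := hV.lift_id hτ.1 hτ.2.1
  have hsurj := surjective_of_isStemExtension hV.surj hτ hφ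
  have hφ' : ∀ x, τ (φ x) = pr Q x := fun x => DFunLike.congr_fun hφ x
  have hK : φ.ker ≤ (pr Q).ker := by
    intro x hx
    rw [MonoidHom.mem_ker] at hx ⊢
    rw [← hφ', hx, map_one]
  have hKc : (pr Q).ker ≤ φ.ker ⊔ _root_.commutator (EE Q) := by
    intro x hx
    have h1 : φ x ∈ τ.ker := by rw [MonoidHom.mem_ker, hφ']; exact hx
    have h2 := hτ.2.2 h1
    rw [commutator_eq_map_of_central hτ.2.1 (φ := φ) (by rw [hφ]; exact hV.surj)] at h2
    obtain ⟨c, hc, hcx⟩ := h2
    have h3 : x = (x * c⁻¹) * c := by group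
    rw [h3]
    refine Subgroup.mul_mem_sup ?_ hc
    rw [MonoidHom.mem_ker, map_mul, map_inv, hcx]; group
  obtain ⟨S, hSn, hS, hSK, -, -, hf, hstem, hne⟩ := hV.exists_cover φ.ker hK hKc
  refine ⟨S, hSn, hS, hf, ⟨hstem, hne⟩, QuotientGroup.lift S φ hSK, ?_, ?_⟩
  · intro d
    obtain ⟨x, rfl⟩ := hsurj d
    exact ⟨(x : EE Q ⧸ S), rfl⟩
  · apply MonoidHom.ext
    intro x
    induction x using QuotientGroup.induction_on with
    | H x => exact hφ' _

/-- A stem extension is a cover iff its kernel has at least the order of the multiplier. -/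
theorem isCover_of_card_le {Γ : Type v} [Group Γ] {σ : Γ →* Q} (hσ : Cfsg.IsStemExtension σ)
    (h : Nat.card (MM Q) ≤ Nat.card σ.ker) : IsCover σ := by
  obtain ⟨f, hf⟩ := (isVersal_pr Q).exists_surj_ker hσ
  have : Finite σ.ker := Finite.of_surjective f hf
  have h1 : Nat.card σ.ker ≤ Nat.card (MM Q) := Nat.card_le_card_of_surjective f hf
  have hb : Bijective f := (Nat.bijective_iff_surjective_and_card f).2 ⟨hf, le_antisymm h h1⟩
  exact ⟨hσ, ⟨MulEquiv.ofBijective f hb⟩⟩

omit [Finite Q] in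
/-- If a cover factors through a stem extension `Γ` with injective map, then `Γ` is a cover. -/
theorem isCover_of_equiv {Γ : Type v} {Γ' : Type w} [Group Γ] [Group Γ'] {σ : Γ →* Q}
    {σ' : Γ' →* Q} (h : IsCover σ) (e : Γ ≃* Γ') (he : σ'.comp e.toMonoidHom = σ) :
    IsCover σ' := by
  have he' : ∀ x, σ' (e x) = σ x := fun x => DFunLike.congr_fun he x
  have hker : σ'.ker = σ.ker.map e.toMonoidHom := by
    ext y
    constructor
    · intro hy
      refine ⟨e.symm y, ?_, by simp⟩
      change σ (e.symm y) = 1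
      rw [← he']; simpa using hy
    · rintro ⟨x, hx, rfl⟩
      change σ' (e x) = 1
      rw [he']; exact hx
  refine ⟨⟨?_, ?_, ?_⟩, ?_⟩
  · intro q
    obtain ⟨x, rfl⟩ := h.stem.1 q
    exact ⟨e x, he' x⟩
  · rw [hker]
    rintro _ ⟨x, hx, rfl⟩
    rw [Subgroup.mem_center_iff]
    intro y
    have := Subgroup.mem_center_iff.1 (h.stem.2.1 hx) (e.symm y)
    apply e.symm.injective
    simpa using this
  · rw [hker]
    have hc : _root_.commutator Γ' = (_root_.commutator Γ).map e.toMonoidHom := by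
      rw [_root_.commutator_def, _root_.commutator_def, Subgroup.map_commutator,
        Subgroup.map_top_of_surjective _ e.surjective]
    rw [hc]
    exact Subgroup.map_mono h.stem.2.2
  · obtain ⟨f⟩ := h.iso
    rw [hker]
    exact ⟨f.trans (σ.ker.equivMapOfInjective _ e.injective)⟩

/-- A stem extension whose middle group has trivial Schur multiplier is a Schur cover. -/
theorem isCover_of_trivial_multiplier {Γ : Type v} [Group Γ] {σ : Γ →* Q}
    (hσ : Cfsg.IsStemExtension σ) (hΓ : Cfsg.HasCyclicSchurMultiplier Γ 1) : IsCover σ := by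
  obtain ⟨S, hSn, hS, hf, hcov, β, hβ, hβσ⟩ := exists_cover_over σ hσ
  have hβ' : ∀ x, σ (β x) = QuotientGroup.lift S (pr Q) hS x := fun x => DFunLike.congr_fun hβσ x
  have hle : β.ker ≤ (QuotientGroup.lift S (pr Q) hS).ker := by
    intro x hx
    rw [MonoidHom.mem_ker] at hx ⊢
    rw [← hβ', hx, map_one]
  have hstem : Cfsg.IsStemExtension β :=
    ⟨hβ, hle.trans hcov.stem.2.1, hle.trans hcov.stem.2.2⟩
  obtain ⟨f, hf⟩ := HasSchurMultiplier.exists_surj_ker hΓ hstem
  have hinj : Injective β := by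
    rw [← MonoidHom.ker_eq_bot_iff, eq_bot_iff]
    intro x hx
    obtain ⟨a, ha⟩ := hf ⟨x, hx⟩
    have ha1 : a = 1 := by
      have : Subsingleton (Multiplicative (ZMod 1)) :=
        inferInstanceAs (Subsingleton (ZMod 1))
      exact Subsingleton.elim _ _
    rw [ha1, map_one] at ha
    exact (congrArg Subtype.val ha).symm
  exact isCover_of_equiv hcov (MulEquiv.ofBijective β ⟨hinj, hβ⟩) hβσ

/-- The structure of a cover: a lift `β : EE Q →* Γ` is surjective with kernel a complement of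
the multiplier. -/
theorem IsCover.lift_ker {Γ : Type v} [Group Γ] {σ : Γ →* Q} (h : IsCover σ) {E : Type w}
    [Group E] {π : E →* Q} (hπ : IsVersal π) {β : E →* Γ} (hβ : σ.comp β = π) :
    Surjective β ∧ β.ker ≤ π.ker ∧ β.ker ⊓ _root_.commutator E = ⊥ ∧
      π.ker = β.ker ⊔ Mult π := by
  have hβ' : ∀ x, σ (β x) = π x := fun x => DFunLike.congr_fun hβ x
  have hsurj := surjective_of_isStemExtension hπ.surj h.stem hβ
  have hle : β.ker ≤ π.ker := by
    intro x hx
    rw [MonoidHom.mem_ker] at hx ⊢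
    rw [← hβ', hx, map_one]
  have hmap : (Mult π).map β = Mult σ := map_ker_inf_commutator hπ.surj h.stem.2.1 hβ
  rw [mult_of_isStemExtension h.stem] at hmap
  have hfin : Finite (Mult π) := finite_mult hπ.surj hπ.central
  obtain ⟨e⟩ := h.iso
  obtain ⟨e'⟩ := hπ.nonempty_mulEquiv (isVersal_pr Q)
  let g : Mult π →* σ.ker := (β.comp (Mult π).subtype).codRestrict σ.ker (by
    intro x
    rw [← hmap]
    exact ⟨x.1, x.2, rfl⟩)
  have hg : Surjective g := by
    rintro ⟨y, hy⟩
    have hy' := hy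
    rw [← hmap] at hy'
    obtain ⟨x, hx, rfl⟩ := hy'
    exact ⟨⟨x, hx⟩, rfl⟩
  have hcard : Nat.card (Mult π) = Nat.card σ.ker := Nat.card_congr (e'.trans e).toEquiv
  have hb : Bijective g := (Nat.bijective_iff_surjective_and_card g).2 ⟨hg, hcard⟩
  refine ⟨hsurj, hle, ?_, ?_⟩
  · rw [eq_bot_iff]
    rintro x ⟨hx1, hx2⟩
    have hxm : x ∈ Mult π := ⟨hle hx1, hx2⟩
    have h1 : g ⟨x, hxm⟩ = g 1 := by
      apply Subtype.ext
      rw [map_one]
      exact hx1
    have h2 := hb.1 h1
    exact congrArg Subtype.val h2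
  · apply le_antisymm
    · intro x hx
      have h1 : β x ∈ σ.ker := by rw [MonoidHom.mem_ker, hβ']; exact hx
      rw [← hmap] at h1
      obtain ⟨m, hm, hmx⟩ := h1
      have h3 : x = (x * m⁻¹) * m := by group
      rw [h3]
      refine Subgroup.mul_mem_sup ?_ hm
      rw [MonoidHom.mem_ker, map_mul, map_inv, hmx]; group
    · exact sup_le hle inf_le_left

end

section Divisible

/-- Extension of homomorphisms into divisible abelian groups. -/
theorem exists_extend_of_divisible {A : Type u} {B : Type v} {Z : Type w} [CommGroup A]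
    [CommGroup B] [CommGroup Z] (hZ : ∀ n : ℕ, n ≠ 0 → ∀ z : Z, ∃ w : Z, w ^ n = z)
    (f : A →* B) (hf : Injective f) (g : A →* Z) : ∃ h : B →* Z, h.comp f = g := by
  have hd : ∀ {n : ℤ}, n ≠ 0 → Function.Surjective (fun a => n • a : Additive Z → Additive Z) := by
    intro n hn z
    obtain ⟨w, hw⟩ := hZ n.natAbs (by simpa using hn) (Additive.toMul z)
    rcases Int.natAbs_eq n with h | h
    · refine ⟨Additive.ofMul w, ?_⟩
      change n • (Additive.ofMul w) = z
      rw [h, natCast_zsmul]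
      exact congrArg Additive.ofMul hw
    · refine ⟨-Additive.ofMul w, ?_⟩
      change n • (-Additive.ofMul w) = z
      rw [h, neg_smul, natCast_zsmul, smul_neg, neg_neg]
      exact congrArg Additive.ofMul hw
  let _ : DivisibleBy (Additive Z) ℤ := divisibleByOfSMulRightSurj (Additive Z) ℤ hd
  have hb : Module.Baer ℤ (Additive Z) := Module.Baer.of_divisible (Additive Z)
  obtain ⟨h, hh⟩ := hb.extension_property_addMonoidHom (MonoidHom.toAdditive f)
    (fun x y hxy => hf hxy) (MonoidHom.toAdditive g)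
  refine ⟨MonoidHom.toAdditive.symm h, ?_⟩
  ext x
  exact DFunLike.congr_fun hh (Additive.ofMul x)

/-- Lifting property of Schur covers with respect to central extensions with divisible kernel. -/
theorem IsCover.lift_divisible {Q : Type u} [Group Q] [Finite Q] {Γ : Type v} [Group Γ]
    {σ : Γ →* Q} (hσ : IsCover σ) {H : Type v'} [Group H] (f : Q →* H) {D : Type w} [Group D]
    {τ : D →* H} (hτ : Surjective τ) (hc : τ.ker ≤ Subgroup.center D)
    (hdiv : ∀ n : ℕ, n ≠ 0 → ∀ z ∈ τ.ker, ∃ w ∈ τ.ker, w ^ n = z) :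
    ∃ ρ : Γ →* D, τ.comp ρ = f.comp σ := by
  have hV := isVersal_pr Q
  obtain ⟨φ, hφ⟩ := hV.lift f hτ hc
  obtain ⟨β, hβ⟩ := hV.lift_id hσ.stem.1 hσ.stem.2.1
  obtain ⟨hs, hle, hinf, -⟩ := hσ.lift_ker hV hβ
  have hφ' : ∀ x, τ (φ x) = f (pr Q x) := fun x => DFunLike.congr_fun hφ x
  have hβ' : ∀ x, σ (β x) = pr Q x := fun x => DFunLike.congr_fun hβ x
  let _ : CommGroup β.ker := commGroupOfLeCenter (hle.trans hV.central)
  let _ : CommGroup τ.ker := commGroupOfLeCenter hc
  let f1 : β.ker →* Abelianization (EE Q) := Abelianization.of.comp β.ker.subtype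
  have hf1 : Injective f1 := by
    rw [injective_iff_map_eq_one]
    rintro ⟨x, hx⟩ hx1
    have h1 : x ∈ _root_.commutator (EE Q) := by
      rw [← Abelianization.ker_of]; exact hx1
    have h2 : x ∈ β.ker ⊓ _root_.commutator (EE Q) := ⟨hx, h1⟩
    rw [hinf] at h2
    exact Subtype.ext h2
  let g1 : β.ker →* τ.ker := (φ.comp β.ker.subtype).codRestrict τ.ker (by
    rintro ⟨x, hx⟩
    change τ (φ x) = 1
    rw [hφ']
    have : pr Q x = 1 := hle hx
    rw [this, map_one])
  obtain ⟨h, hh⟩ := exists_extend_of_divisible (Z := τ.ker) (by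
    intro n hn z
    obtain ⟨w, hw1, hw2⟩ := hdiv n hn z.1 z.2
    exact ⟨⟨w, hw1⟩, Subtype.ext hw2⟩) f1 hf1 g1
  let k : EE Q →* τ.ker := h.comp Abelianization.of
  have hkc : ∀ x (d : D), d * (k x : D) = (k x : D) * d := fun x d =>
    Subgroup.mem_center_iff.1 (hc (k x).2) d
  let ψ : EE Q →* D :=
    { toFun := fun x => φ x * ((k x : D))⁻¹
      map_one' := by simp
      map_mul' := by
        intro x y
        have h1 : ((k (x * y) : τ.ker) : D) = (k x : D) * (k y : D) := by rw [map_mul]; rfl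
        rw [map_mul, h1, mul_inv_rev]
        have h2 : (k y : D) * φ y = φ y * (k y : D) := (hkc y (φ y)).symm
        have h3 : φ y * ((k y : D)⁻¹ * (k x : D)⁻¹) = (k x : D)⁻¹ * (φ y * (k y : D)⁻¹) := by
          have e1 : (k x : D)⁻¹ * (φ y * (k y : D)⁻¹) = (φ y * (k y : D)⁻¹) * (k x : D)⁻¹ := by
            rw [inv_mul_eq_iff_eq_mul, ← mul_assoc, eq_mul_inv_iff_mul_eq]
            exact hkc x _
          rw [e1]; group
        calc φ x * φ y * ((k y : D)⁻¹ * (k x : D)⁻¹)
            = φ x * (φ y * ((k y : D)⁻¹ * (k x : D)⁻¹)) := by group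
          _ = φ x * ((k x : D)⁻¹ * (φ y * (k y : D)⁻¹)) := by rw [h3]
          _ = _ := by group }
  have hψ : ∀ x, ψ x = φ x * ((k x : D))⁻¹ := fun x => rfl
  have hψker : β.ker ≤ ψ.ker := by
    intro x hx
    rw [MonoidHom.mem_ker, hψ, mul_inv_eq_one]
    have := DFunLike.congr_fun hh ⟨x, hx⟩
    exact (congrArg Subtype.val this).symm
  let e := QuotientGroup.quotientKerEquivOfSurjective β hs
  refine ⟨(QuotientGroup.lift β.ker ψ hψker).comp e.symm.toMonoidHom, ?_⟩
  ext y
  obtain ⟨x, rfl⟩ := hs y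
  have he : e.symm (β x) = (x : EE Q ⧸ β.ker) := by
    rw [MulEquiv.symm_apply_eq]; rfl
  simp only [MonoidHom.comp_apply, MulEquiv.coe_toMonoidHom]
  rw [he, hβ']
  change τ (ψ x) = _
  rw [hψ, map_mul, map_inv, (k x).2, hφ']
  simp

end Divisible

end Cfsg.Agent.H487
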